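import Cfsg.Agent.Lib.PGroups.FourGenerator.Frame

/-!
Two-groups without normal elementary abelian subgroups of order eight, part four:
counting, and the theorem of MacWilliams.
-/

set_option autoImplicit false

namespace Cfsg.Agent.PGroups.FourGenerator

open Subgroup

variable {G : Type*} [Group G] [Finite G] (S : Setup G)

theorem card_le_range_mul {X Y : Type*} [Finite X] (f : X → Y) (ι : X → G)
    (hι : Function.Injective ι) (W : Subgroup G)
    (h : ∀ x y, f x = f y → (ι x)⁻¹ * ι y ∈ W) :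
    Nat.card X ≤ Nat.card (Set.range f) * Nat.card W := by
  classical
  have hr : ∀ b : Set.range f, ∃ x, f x = b := fun b => b.2
  choose r hr using hr
  rw [← Nat.card_prod]
  refine Nat.card_le_card_of_injective
    (fun x => (⟨f x, x, rfl⟩, ⟨(ι (r ⟨f x, x, rfl⟩))⁻¹ * ι x, h _ _ (hr _)⟩)) fun x y hxy => ?_
  simp only [Prod.mk.injEq, Subtype.mk.injEq] at hxy
  obtain ⟨h1, h2⟩ := hxy
  have : (⟨f x, x, rfl⟩ : Set.range f) = ⟨f y, y, rfl⟩ := h1
  rw [this] at h2
  exact hι (mul_left_cancel h2)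

theorem exists_pow_two {H : Type*} [Group H] (hH : IsPGroup 2 H) (K : Subgroup H)
    [K.FiniteIndex] : ∃ n, K.index = 2 ^ n := by
  haveI : Fact (Nat.Prime 2) := ⟨Nat.prime_two⟩
  exact hH.index K

theorem le_of_pow_two {n b k : ℕ} (hn : n = 2 ^ k) (h : n < b) :
    (b = 4 → n ≤ 2) ∧ (b = 8 → n ≤ 4) ∧ (b = 16 → n ≤ 8) := by
  subst hn
  refine ⟨?_, ?_, ?_⟩ <;> rintro rfl
  · have : k < 2 := (Nat.pow_lt_pow_iff_right (by omega)).mp h
    exact (Nat.pow_le_pow_right (by omega) (show k ≤ 1 by omega)).trans le_rfl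
  · have : k < 3 := (Nat.pow_lt_pow_iff_right (by omega)).mp h
    exact (Nat.pow_le_pow_right (by omega) (show k ≤ 2 by omega)).trans le_rfl
  · have : k < 4 := (Nat.pow_lt_pow_iff_right (by omega)).mp h
    exact (Nat.pow_le_pow_right (by omega) (show k ≤ 3 by omega)).trans le_rfl

/-- An element of `M` whose coset contains no involution, with the shape needed for counting. -/
def Setup.Bad (h : G) : Prop :=
  Nat.card S.W = 4 ∧ Nat.card S.A = 16 ∧ h ∈ S.M ∧ S.NoInv h ∧ S.NoInvol h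

variable {S}

theorem Setup.relIndex_T_le {H : Subgroup G} (K : Subgroup H) (hK : ∀ x : H, x * x ∈ K) :
    K.relIndex (S.C.subgroupOf H) ≤ 4 ∧
      ((∃ h : H, S.Bad (h : G)) → K.relIndex (S.C.subgroupOf H) ≤ 2) := by
  set T := S.C.subgroupOf H with hT
  let f : T → K.subgroupOf T := fun t => ⟨t * t, mem_subgroupOf.mpr (hK (t : H))⟩
  have hfib : ∀ x y : T, f x = f y → ((x : H) : G)⁻¹ * ((y : H) : G) ∈ S.W := fun x y e =>
    S.sq_fibre (mem_subgroupOf.mp x.2) (mem_subgroupOf.mp y.2) (by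
      rw [sq, sq]; exact congrArg (fun u : K.subgroupOf T => (((u : T) : H) : G)) e)
  have hle := card_le_range_mul f (fun t : T => ((t : H) : G))
    (fun x y e => Subtype.ext (Subtype.ext e)) S.W hfib
  have hidx : Nat.card (K.subgroupOf T) * K.relIndex T = Nat.card T := card_mul_index _
  have hpos : 0 < Nat.card (K.subgroupOf T) := Nat.card_pos
  have hr : Nat.card (Set.range f) ≤ Nat.card (K.subgroupOf T) :=
    Nat.card_le_card_of_injective _ Subtype.val_injective
  refine ⟨Nat.le_of_mul_le_mul_left ?_ hpos, fun ⟨h, hW, hA, hM, hn, hi⟩ => ?_⟩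
  · calc _ = Nat.card T := hidx
      _ ≤ _ := hle
      _ ≤ _ := Nat.mul_le_mul hr S.cardW
  have hsq : (h * h : H) ∈ T := mem_subgroupOf.mpr (by
    rw [coe_mul, ← sq]; exact S.sq_mem_C hM)
  have hout : (⟨⟨h * h, hsq⟩, mem_subgroupOf.mpr (hK h)⟩ : K.subgroupOf T) ∉ Set.range f := by
    rintro ⟨t, ht⟩
    refine S.sq_ne hW hA hM hn hi (mem_subgroupOf.mp t.2) ?_
    rw [sq, sq]
    exact congrArg (fun u : K.subgroupOf T => (((u : T) : H) : G)) ht
  have hlt : Nat.card (Set.range f) < Nat.card (K.subgroupOf T) := by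
    refine lt_of_le_of_ne hr fun e => hout ?_
    obtain ⟨y, hy⟩ := ((Nat.bijective_iff_injective_and_card
      (Subtype.val : Set.range f → K.subgroupOf T)).mpr ⟨Subtype.val_injective, e⟩).2
        ⟨⟨h * h, hsq⟩, mem_subgroupOf.mpr (hK h)⟩
    exact hy ▸ y.2
  have h4 : K.relIndex T < 4 := Nat.lt_of_mul_lt_mul_left
    (a := Nat.card (K.subgroupOf T)) (by
      rw [hidx]
      exact hle.trans_lt (by rw [hW]; omega))
  obtain ⟨k, hk⟩ : ∃ k, K.relIndex T = 2 ^ k :=
    exists_pow_two ((S.isTwo.to_subgroup H).to_subgroup T) (K.subgroupOf T)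
  exact (le_of_pow_two hk h4).1 rfl

theorem Setup.index_M_le_two (F : Frame S) : S.M.index ≤ 2 := by
  by_cases htop : ∀ x, x ∈ S.M
  · rw [show S.M = ⊤ from eq_top_iff.mpr fun x _ => htop x, index_top]; omega
  obtain ⟨t, ht⟩ := not_forall.mp htop
  refine le_of_eq (index_eq_two_iff.mpr ⟨t, fun b => ?_⟩)
  by_cases hb : b ∈ S.M
  · exact Or.inr ⟨hb, fun h => ht (by simpa using mul_mem (inv_mem hb) h)⟩
  refine Or.inl ⟨fun x hx => ?_, hb⟩
  have e : b * t * x * (b * t)⁻¹ = x := by
    rw [show b * t * x * (b * t)⁻¹ = b * (t * x * t⁻¹) * b⁻¹ by group, ← F.p_q hx,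
      F.conj_p ht, F.conj_p hb, show tv (tv (F.q x)) = F.q x from
        (show ∀ v, tv (tv v) = v by decide) _]
  calc x * (b * t) = b * t * x * (b * t)⁻¹ * (b * t) := by rw [e]
    _ = b * t * x := inv_mul_cancel_right _ _

theorem Setup.comm_all {H : Subgroup G} (he : S.C.relIndex H = S.C.index)
    (hc : ∀ a ∈ H, ∀ b ∈ H, a * b * a⁻¹ * b⁻¹ ∈ S.C) (x y : G) :
    x * y * x⁻¹ * y⁻¹ ∈ S.C := by
  haveI := S.normalC
  have htop : H ⊔ S.C = ⊤ := index_eq_one.mp <| by
    have := relIndex_mul_index (le_sup_right : S.C ≤ H ⊔ S.C)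
    rw [relIndex_sup_right, he] at this
    exact (Nat.mul_eq_left index_ne_zero_of_finite).mp this
  obtain ⟨a, ha, c, hcc, rfl⟩ := mem_sup_of_normal_right.mp (htop ▸ mem_top x)
  obtain ⟨b, hb, d, hd, rfl⟩ := mem_sup_of_normal_right.mp (htop ▸ mem_top y)
  rw [← QuotientGroup.eq_one_iff]
  have h := (QuotientGroup.eq_one_iff (N := S.C) _).mpr (hc a ha b hb)
  have h1 := (QuotientGroup.eq_one_iff (N := S.C) c).mpr hcc
  have h2 := (QuotientGroup.eq_one_iff (N := S.C) d).mpr hd
  simp only [QuotientGroup.mk_mul, QuotientGroup.mk_inv, h1, h2, mul_one, mul_inv_rev, inv_one,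
    one_mul] at h ⊢
  exact h

theorem Setup.relIndex_le_mul (H : Subgroup G) :
    S.C.relIndex H ≤ S.C.relIndex (H ⊓ S.M) * S.M.index := by
  haveI := S.normalM
  have h1 := relIndex_mul_relIndex (S.C ⊓ H) (H ⊓ S.M) H
    (le_inf inf_le_right (inf_le_left.trans S.C_le_M)) inf_le_left
  rw [inf_relIndex_right] at h1
  have h2 : (S.C ⊓ H).relIndex (H ⊓ S.M) = S.C.relIndex (H ⊓ S.M) := by
    rw [← inf_relIndex_right (S.C ⊓ H), inf_assoc, ← inf_assoc H, inf_idem, inf_relIndex_right]
  have h3 : (H ⊓ S.M).relIndex H ≤ S.M.index := by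
    rw [inf_comm, inf_relIndex_right]
    exact Nat.le_of_dvd (Nat.pos_of_ne_zero index_ne_zero_of_finite)
      (relIndex_dvd_index_of_normal _ _)
  rw [← h1, h2]
  exact Nat.mul_le_mul_left _ h3

theorem Setup.index_le_mul : S.C.index ≤ S.C.relIndex S.M * S.M.index :=
  (relIndex_mul_index S.C_le_M).ge

/-- The facts on the image of a subgroup in `G / C` needed for the count. -/
theorem Setup.small_or_bad {H : Subgroup G} (K : Subgroup H) [K.Normal]
    (hK : ∀ x : H, x * x ∈ K) :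
    (K ⊔ S.C.subgroupOf H).index ≤ 4 ∨
      ((K ⊔ S.C.subgroupOf H).index ≤ 8 ∧ ∃ h : H, S.Bad (h : G)) := by
  classical
  haveI : Fact (Nat.Prime 2) := ⟨Nat.prime_two⟩
  haveI := S.normalC
  haveI := S.normalA
  haveI := S.normalW
  set T := S.C.subgroupOf H with hT
  set r := (K ⊔ T).index with hr
  obtain ⟨k, hk⟩ := exists_pow_two (S.isTwo.to_subgroup H) (K ⊔ T)
  by_cases h4 : r ≤ 4
  · exact Or.inl h4
  have h8 : 8 ≤ r := by
    rw [hr, hk] at h4 ⊢
    have h2 : 2 < k := by
      by_contra h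
      exact h4 ((Nat.pow_le_pow_right (Nat.succ_pos 1) (not_lt.mp h)).trans le_rfl)
    exact le_trans (show 8 ≤ 2 ^ 3 from le_rfl) (Nat.pow_le_pow_right (Nat.succ_pos 1) h2)
  have hrle : r ≤ S.C.relIndex H :=
    Nat.le_of_dvd (Nat.pos_of_ne_zero (index_ne_zero_of_finite (H := T)))
      (index_dvd_of_le le_sup_right)
  have hCle : S.C.relIndex H ≤ S.C.index :=
    Nat.le_of_dvd (Nat.pos_of_ne_zero index_ne_zero_of_finite) (relIndex_dvd_index_of_normal _ _)
  have habel : r = S.C.relIndex H → ∀ a ∈ H, ∀ b ∈ H, a * b * a⁻¹ * b⁻¹ ∈ S.C := by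
    intro he
    have hKT : K ≤ T := by
      have := relIndex_mul_index (le_sup_right : T ≤ K ⊔ T)
      rw [show T.index = r from he.symm] at this
      have h1 : T.relIndex (K ⊔ T) = 1 := Nat.eq_of_mul_eq_mul_right (by omega)
        (this.trans (one_mul _).symm)
      exact le_sup_left.trans (relIndex_eq_one.mp h1)
    intro a ha b hb
    have hm : ∀ x : H, x * x ∈ T := fun x => hKT (hK x)
    let a' : H := ⟨a, ha⟩
    let b' : H := ⟨b, hb⟩
    have key : a' * b' * a'⁻¹ * b'⁻¹ =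
        (a' * b' * (a' * b')) * (b'⁻¹ * (a'⁻¹ * a'⁻¹) * b'⁻¹⁻¹) * (b'⁻¹ * b'⁻¹) := by group
    have : a' * b' * a'⁻¹ * b'⁻¹ ∈ T := by
      rw [key]
      exact mul_mem (mul_mem (hm _) ((normal_subgroupOf (H := H) (N := S.C)).conj_mem _ (hm _) _))
        (hm _)
    simpa [mem_subgroupOf, hT] using this
  -- the dichotomy on squares in `A`
  by_cases hcase : Nat.card S.W = 4 ∧ ∀ u ∈ S.W, ∃ a ∈ S.A, a ^ 2 = u
  swap
  · exfalso
    obtain ⟨a0, ha0, hcover⟩ : ∃ a0 ∈ S.A, ∀ a ∈ S.A, a ^ 2 = 1 ∨ a ^ 2 = a0 ^ 2 := by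
      by_contra! hno
      obtain ⟨a1, ha1, h11, -⟩ := hno 1 S.A.one_mem
      obtain ⟨a2, ha2, h21, h22⟩ := hno a1 ha1
      have hc : Commute a1 a2 := S.comm _ ha1 _ ha2
      have hmem : ∀ a ∈ S.A, a ^ 2 ∈ S.W := fun a ha => S.sq_mem_W ha
      have hne : (a1 * a2) ^ 2 ≠ 1 ∧ (a1 * a2) ^ 2 ≠ a1 ^ 2 ∧ (a1 * a2) ^ 2 ≠ a2 ^ 2 := by
        rw [hc.mul_pow]
        refine ⟨fun e => h22 ?_, fun e => h21 (mul_eq_left.mp e),
          fun e => h11 (mul_eq_right.mp e)⟩
        rw [eq_inv_of_mul_eq_one_right e, S.inv_W (hmem _ ha1)]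
      let s : Finset G := {1, a1 ^ 2, a2 ^ 2, (a1 * a2) ^ 2}
      have hs : s.card = 4 := by
        simp [s, Finset.card_insert_of_notMem, Ne.symm h11, Ne.symm h21, Ne.symm hne.1,
          Ne.symm h22, Ne.symm hne.2.1, Ne.symm hne.2.2]
      have hsW : ∀ u ∈ s, u ∈ S.W ∧ ∃ a ∈ S.A, a ^ 2 = u := by
        intro u hu
        simp only [s, Finset.mem_insert, Finset.mem_singleton] at hu
        rcases hu with rfl | rfl | rfl | rfl
        · exact ⟨S.W.one_mem, 1, S.A.one_mem, one_pow 2⟩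
        · exact ⟨hmem _ ha1, a1, ha1, rfl⟩
        · exact ⟨hmem _ ha2, a2, ha2, rfl⟩
        · exact ⟨hmem _ (mul_mem ha1 ha2), _, mul_mem ha1 ha2, rfl⟩
      have hi : Function.Injective (fun u : s => (⟨u, (hsW u u.2).1⟩ : S.W)) :=
        fun u v e => Subtype.ext (congrArg (fun x : S.W => (x : G)) e)
      have hW4 : Nat.card S.W = 4 := le_antisymm S.cardW (by
        have := Nat.card_le_card_of_injective _ hi
        simpa [hs] using this)
      refine hcase ⟨hW4, fun u hu => ?_⟩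
      obtain ⟨v, hv⟩ := ((Nat.bijective_iff_injective_and_card _).mpr
        ⟨hi, by rw [hW4]; simpa using hs⟩).2 ⟨u, hu⟩
      have : (v : G) = u := congrArg (fun x : S.W => (x : G)) hv
      exact this ▸ (hsW v v.2).2
    let f : S.M →* S.W := MonoidHom.mk' (fun g => ⟨delta g a0, S.delta_mem_W g.2 ha0⟩)
      fun g h => Subtype.ext (S.delta_mul g.2 h.2 ha0)
    have hker : f.ker = S.C.subgroupOf S.M := by
      ext g
      rw [MonoidHom.mem_ker, mem_subgroupOf]
      constructor
      · intro h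
        refine S.mem_C_of_delta fun a ha => ?_
        rcases hcover a ha with e | e
        · rw [S.delta_congr g.2 S.A.one_mem ha (by rw [one_pow, e])]; simp [delta]
        · rw [S.delta_congr g.2 ha0 ha e.symm]; exact congrArg Subtype.val h
      · intro h
        exact Subtype.ext (show delta (g : G) a0 = 1 by
          rw [delta, S.fix_A h ha0, inv_mul_cancel])
    have hCM : S.C.relIndex S.M = Nat.card f.range := by
      rw [← index_ker, hker]; rfl
    have hrange : Nat.card f.range ≤ Nat.card S.W :=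
      Nat.card_le_card_of_injective _ Subtype.val_injective
    obtain ⟨j, hj⟩ := (S.isTwo.to_subgroup S.W).exists_card_eq
    have hidx := S.index_le_mul
    by_cases hW4 : Nat.card S.W = 4
    swap
    · have hW2 : Nat.card S.W ≤ 2 :=
        (le_of_pow_two hj (lt_of_le_of_ne S.cardW hW4)).1 rfl
      have hM : S.M = ⊤ := by
        refine eq_top_iff.mpr fun g _ w hw => ?_
        by_cases hw1 : w = 1
        · rw [hw1, one_mul, mul_one]
        have e : g * w * g⁻¹ = w := by
          by_contra hne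
          have hne1 : g * w * g⁻¹ ≠ 1 := fun h => hw1 (conj_eq_one_iff.mp h)
          let s : Finset G := {1, w, g * w * g⁻¹}
          have hs : s.card = 3 := by
            simp [s, Finset.card_insert_of_notMem, Ne.symm hw1, Ne.symm hne, Ne.symm hne1]
          have hsW : ∀ u ∈ s, u ∈ S.W := by
            intro u hu
            simp only [s, Finset.mem_insert, Finset.mem_singleton] at hu
            rcases hu with rfl | rfl | rfl
            exacts [S.W.one_mem, hw, S.normalW.conj_mem _ hw g]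
          have := Nat.card_le_card_of_injective (fun u : s => (⟨u, hsW u u.2⟩ : S.W))
            fun u v e => Subtype.ext (congrArg (fun x : S.W => (x : G)) e)
          simp [hs] at this
          omega
        calc w * g = g * w * g⁻¹ * g := by rw [e]
          _ = g * w := inv_mul_cancel_right _ _
      rw [hCM, show S.M.index = 1 by rw [hM, index_top], mul_one] at hidx
      omega
    obtain ⟨z, hzW, hz1, -, hzc⟩ := AbelianNormal.exists_step S.isTwo
      (B := (⊥ : Subgroup G)) (N := S.W)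
      (bot_lt_iff_ne_bot.mpr fun h => by rw [h, card_bot] at hW4; omega)
    have hz' : ∀ g, g * z * g⁻¹ = z := fun g => mul_inv_eq_one.mp (mem_bot.mp (hzc g))
    have hz1' : z ≠ 1 := fun h => hz1 (mem_bot.mpr h)
    -- an element moved by every `t` outside `M`
    have hM2 : S.M.index ≤ 2 ∧ (S.M.index ≤ 1 ∨ ∃ t w, w ∈ S.W ∧ t * w * t⁻¹ ≠ w) := by
      by_cases htop : ∀ x, x ∈ S.M
      · rw [show S.M = ⊤ from eq_top_iff.mpr fun x _ => htop x, index_top]
        exact ⟨by omega, Or.inl le_rfl⟩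
      obtain ⟨t, ht⟩ := not_forall.mp htop
      obtain ⟨w, hw, hmove⟩ : ∃ w ∈ S.W, t * w * t⁻¹ ≠ w := by
        by_contra! hno
        refine ht fun w hw => ?_
        calc w * t = t * w * t⁻¹ * t := by rw [hno w hw]
          _ = t * w := inv_mul_cancel_right _ _
      refine ⟨?_, Or.inr ⟨t, w, hw, hmove⟩⟩
      refine le_of_eq (index_eq_two_iff.mpr ⟨t, fun b => ?_⟩)
      by_cases hb : b ∈ S.M
      · exact Or.inr ⟨hb, fun h => ht (by simpa using mul_mem (inv_mem hb) h)⟩
      refine Or.inl ⟨fun u hu => ?_, hb⟩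
      -- both `b` and `t` exchange the two elements other than `1` and `z`
      have key : ∀ x : G, x ∉ S.M → ∀ u ∈ S.W, x * u * x⁻¹ = u → u = 1 ∨ u = z := by
        intro x hx u hu hfix
        by_contra! hne
        refine hx fun v hv => ?_
        have hv' : v = 1 ∨ v = z ∨ v = u ∨ v = z * u := by
          by_contra! hv4
          have huz : z * u ≠ 1 := fun h => hne.2 (by
            rw [eq_inv_of_mul_eq_one_right h, S.inv_W hzW])
          have hzu : z * u ≠ z := fun h => hne.1 (mul_eq_left.mp h)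
          have huu : z * u ≠ u := fun h => hz1' (mul_eq_right.mp h)
          let s : Finset G := {1, z, u, z * u, v}
          have hs : s.card = 5 := by
            simp [s, Finset.card_insert_of_notMem, Ne.symm hz1', Ne.symm hne.1, Ne.symm huz,
              Ne.symm hv4.1, Ne.symm hne.2, Ne.symm hzu, Ne.symm hv4.2.1, Ne.symm huu,
              Ne.symm hv4.2.2.1, Ne.symm hv4.2.2.2]
          have hsW : ∀ y ∈ s, y ∈ S.W := by
            intro y hy
            simp only [s, Finset.mem_insert, Finset.mem_singleton] at hy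
            rcases hy with rfl | rfl | rfl | rfl | rfl
            exacts [S.W.one_mem, hzW, hu, mul_mem hzW hu, hv]
          have := Nat.card_le_card_of_injective (fun y : s => (⟨y, hsW y y.2⟩ : S.W))
            fun a b e => Subtype.ext (congrArg (fun x : S.W => (x : G)) e)
          simp [hs] at this
          omega
        have e : x * v * x⁻¹ = v := by
          rcases hv' with rfl | rfl | rfl | rfl
          · simp
          · exact hz' x
          · exact hfix
          · rw [← conj_mul, hz', hfix]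
        calc v * x = x * v * x⁻¹ * x := by rw [e]
          _ = x * v := inv_mul_cancel_right _ _
      have swap : ∀ x : G, x ∉ S.M → ∀ u ∈ S.W, u ≠ 1 → u ≠ z → x * u * x⁻¹ = z * u := by
        intro x hx u hu h1 h2
        have h3 : x * u * x⁻¹ ≠ u := fun h => (key x hx u hu h).elim h1 h2
        have hmem := S.normalW.conj_mem _ hu x
        by_contra h4
        let s : Finset G := {1, z, u, z * u, x * u * x⁻¹}
        have huz : z * u ≠ 1 := fun h => h2 (by
          rw [eq_inv_of_mul_eq_one_right h, S.inv_W hzW])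
        have hzu : z * u ≠ z := fun h => h1 (mul_eq_left.mp h)
        have huu : z * u ≠ u := fun h => hz1' (mul_eq_right.mp h)
        have hv1 : x * u * x⁻¹ ≠ 1 := fun h => h1 (conj_eq_one_iff.mp h)
        have hv2 : x * u * x⁻¹ ≠ z := fun h => h2 (by
          rw [← hz' x] at h
          exact mul_left_cancel (mul_right_cancel h))
        have hs : s.card = 5 := by
          simp [s, Finset.card_insert_of_notMem, Ne.symm hz1', Ne.symm h1, Ne.symm huz,
            Ne.symm hv1, Ne.symm h2, Ne.symm hzu, Ne.symm hv2, Ne.symm huu, Ne.symm h3, Ne.symm h4]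
        have hsW : ∀ y ∈ s, y ∈ S.W := by
          intro y hy
          simp only [s, Finset.mem_insert, Finset.mem_singleton] at hy
          rcases hy with rfl | rfl | rfl | rfl | rfl
          exacts [S.W.one_mem, hzW, hu, mul_mem hzW hu, hmem]
        have := Nat.card_le_card_of_injective (fun y : s => (⟨y, hsW y y.2⟩ : S.W))
          fun a b e => Subtype.ext (congrArg (fun x : S.W => (x : G)) e)
        simp [hs] at this
        omega
      have e : b * t * u * (b * t)⁻¹ = u := by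
        rw [show b * t * u * (b * t)⁻¹ = b * (t * u * t⁻¹) * b⁻¹ by group]
        by_cases h1 : u = 1
        · simp [h1]
        by_cases h2 : u = z
        · rw [h2, hz', hz']
        rw [swap t ht u hu h1 h2, swap b hb (z * u) (mul_mem hzW hu)
          (fun h => h2 (by rw [eq_inv_of_mul_eq_one_right h, S.inv_W hzW]))
          (fun h => h1 (mul_eq_left.mp h)), ← mul_assoc, ← sq, S.sq_W hzW, one_mul]
      calc u * (b * t) = b * t * u * (b * t)⁻¹ * (b * t) := by rw [e]
        _ = b * t * u := inv_mul_cancel_right _ _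
    have hb1 : S.C.index ≤ 4 * S.M.index :=
      hidx.trans (Nat.mul_le_mul_right _ (by omega))
    rcases hM2.2 with h1 | ⟨t, w, hw, hmove⟩
    · have := hb1.trans (Nat.mul_le_mul_left 4 h1); omega
    have hb2 : S.C.index ≤ 8 := hb1.trans (Nat.mul_le_mul_left 4 hM2.1)
    have he : S.C.relIndex H = S.C.index := by omega
    have hcm := S.comm_all he (habel (by omega))
    -- every value occurs as a displacement of `a0`
    have hfull : Nat.card f.range = 4 := by
      refine le_antisymm (hrange.trans hW4.le) ?_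
      by_contra h
      have hlt : Nat.card f.range ≤ 2 := by
        obtain ⟨l, hl⟩ := ((S.isTwo.to_subgroup S.W).to_subgroup f.range).exists_card_eq
        exact (le_of_pow_two hl (by omega)).1 rfl
      have := hidx.trans (Nat.mul_le_mul (hCM ▸ hlt) hM2.1)
      omega
    obtain ⟨g, hg⟩ : (⟨w, hw⟩ : S.W) ∈ f.range := by
      rw [eq_top_of_card_eq f.range (hfull.trans hW4.symm)]; trivial
    have hgw : delta (g : G) a0 = w := congrArg Subtype.val hg
    refine hmove ?_
    have hsame : t * (g : G) * t⁻¹ * (g : G)⁻¹ ∈ S.C := hcm t g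
    have hta : t⁻¹ * a0 * t ∈ S.A := by simpa using S.normalA.conj_mem _ ha0 t⁻¹
    have hsq : (t⁻¹ * a0 * t) ^ 2 = a0 ^ 2 := by
      rcases hcover _ hta with e | e
      · have e' : a0 ^ 2 = 1 := by
          have h' : (t⁻¹ * a0 * t) ^ 2 = t⁻¹ * a0 ^ 2 * t := by
            simpa using conj_pow (a := t⁻¹) (b := a0) (i := 2)
          rw [h'] at e
          calc a0 ^ 2 = t * (t⁻¹ * a0 ^ 2 * t) * t⁻¹ := by group
            _ = 1 := by rw [e, mul_one, mul_inv_cancel]
        rw [e, e']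
      · exact e
    calc t * w * t⁻¹ = t * delta (g : G) (t⁻¹ * a0 * t) * t⁻¹ := by
          rw [S.delta_congr g.2 ha0 hta hsq.symm, hgw]
      _ = a0⁻¹ * ((t * g * t⁻¹) * a0 * (t * g * t⁻¹)⁻¹) := by unfold delta; group
      _ = delta (g : G) a0 := by rw [S.conj_congr hsame ha0]; rfl
      _ = w := hgw
  -- the case `A ≅ C₄ × C₄`
  obtain ⟨hW4, hsurj⟩ := hcase
  obtain ⟨z, hzW, hz1, -, hzc⟩ := AbelianNormal.exists_step S.isTwo
    (B := (⊥ : Subgroup G)) (N := S.W)
    (bot_lt_iff_ne_bot.mpr fun h => by rw [h, card_bot] at hW4; omega)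
  obtain ⟨w, hwW, hw1, hwz⟩ : ∃ w ∈ S.W, w ≠ 1 ∧ w ≠ z := by
    by_contra! hno
    have hle : Nat.card S.W ≤ 2 := by
      refine (Nat.card_le_card_of_injective (fun x : S.W => decide ((x : G) = 1))
        fun x y e => ?_).trans (by simp)
      by_cases hx : (x : G) = 1
      · by_cases hy : (y : G) = 1
        · exact Subtype.ext (hx.trans hy.symm)
        · simp [hx, hy] at e
      · by_cases hy : (y : G) = 1
        · simp [hx, hy] at e
        · exact Subtype.ext ((hno _ x.2 hx).trans (hno _ y.2 hy).symm)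
    omega
  obtain ⟨az, haz, haz2⟩ := hsurj z hzW
  obtain ⟨aw, haw, haw2⟩ := hsurj w hwW
  let F : Frame S := ⟨z, w, az, aw, hzW, hwW, haz, haw, haz2, haw2,
    fun h => hz1 (mem_bot.mpr h), hw1, hwz, fun g => mul_inv_eq_one.mp (mem_bot.mp (hzc g)), hW4⟩
  have hA : Nat.card S.A = 16 := by
    let s : S.A →* S.W := MonoidHom.mk' (fun a => ⟨(a : G) ^ 2, S.sq_mem_W a.2⟩) fun a b =>
      Subtype.ext (by
        change ((a : G) * b) ^ 2 = _
        exact (show Commute (a : G) b from S.comm _ a.2 _ b.2).mul_pow 2)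
    have hs : Function.Surjective s := fun u => by
      obtain ⟨a, ha, e⟩ := hsurj u u.2
      exact ⟨⟨a, ha⟩, Subtype.ext e⟩
    have hk : s.ker = S.W.subgroupOf S.A := by
      ext a
      rw [MonoidHom.mem_ker, mem_subgroupOf, S.memW]
      exact ⟨fun h => ⟨a.2, congrArg Subtype.val h⟩, fun h => Subtype.ext h.2⟩
    have hm := card_mul_index s.ker
    rw [index_ker, hk, Nat.card_congr (subgroupOfEquivOfLe S.W_le_A).toEquiv, hW4,
      MonoidHom.range_eq_top.mpr hs, card_top, hW4] at hm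
    omega
  let Φ : Subgroup (Multiplicative End2) := F.ψ.range
  let P : Subgroup (Multiplicative End2) := (H.subgroupOf S.M).map F.ψ
  let e := fun m : End2 => Multiplicative.ofAdd m
  have hPΦ : P ≤ Φ := by rintro _ ⟨g, -, rfl⟩; exact ⟨g, rfl⟩
  have hPcard : Nat.card P = S.C.relIndex (H ⊓ S.M) := by
    rw [← relIndex_ker, F.ker_ψ, ← inf_subgroupOf_right H S.M, relIndex_subgroupOf inf_le_right]
  have hΦcard : Nat.card Φ = S.C.relIndex S.M := by rw [← index_ker, F.ker_ψ]; rfl
  have h2grp : IsPGroup 2 (Multiplicative End2) := IsPGroup.of_card (n := 4) (by simp)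
  -- elements of `Φ`
  have hmem : ∀ m, e m ∈ Φ → ∃ g : S.M, F.ψ g = e m := fun m hm => hm
  have hconj : ∀ t ∉ S.M, ∀ g : S.M,
      t * (g : G) * t⁻¹ * (g : G)⁻¹ ∈ S.C →
        ad (Multiplicative.toAdd (F.ψ g)) = Multiplicative.toAdd (F.ψ g) := by
    intro t ht g hg
    have hg' : t * (g : G) * t⁻¹ ∈ S.M := S.normalM.conj_mem _ g.2 t
    have h1 := F.ψ_conj ht g ⟨_, hg'⟩ rfl
    have h2 : F.ψ ⟨_, hg'⟩ = F.ψ g := by
      rw [← mul_inv_eq_one, ← map_inv, ← map_mul, ← MonoidHom.mem_ker, F.ker_ψ, mem_subgroupOf]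
      exact hg
    rw [h2] at h1
    conv_rhs => rw [h1]
    rfl
  have hfixed : ∀ g : S.M, ((∀ x, x ∈ S.M) ∨
      ad (Multiplicative.toAdd (F.ψ g)) = Multiplicative.toAdd (F.ψ g)) →
      ∀ y : G, y * (g : G) * y⁻¹ * (g : G)⁻¹ ∈ S.C := by
    intro g hg y
    by_cases hy : y ∈ S.M
    · exact S.comm_mem_C hy g.2
    rcases hg with h | h
    · exact absurd (h y) hy
    have hg' : y * (g : G) * y⁻¹ ∈ S.M := S.normalM.conj_mem _ g.2 y
    have h1 := F.ψ_conj hy g ⟨_, hg'⟩ rfl
    rw [h, ofAdd_toAdd] at h1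
    have : (⟨_, hg'⟩ : S.M) * g⁻¹ ∈ F.ψ.ker := by
      rw [MonoidHom.mem_ker, map_mul, h1, map_inv, mul_inv_cancel]
    rw [F.ker_ψ, mem_subgroupOf] at this
    exact this
  have hnotC : ∀ g : S.M, Multiplicative.toAdd (F.ψ g) ≠ 0 → (g : G) ∉ S.C := fun g h hC => h (by
    rw [show F.ψ g = 1 from MonoidHom.mem_ker.mp (by rw [F.ker_ψ]; exact hC), toAdd_one])
  have hbad : ∀ m, (m = eN0 ∨ m = eN1 ∨ m = eN2) → ((∀ x, x ∈ S.M) ∨ ad m = m) → ∀ g : S.M,
      F.ψ g = e m → S.Bad (g : G) := by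
    intro m hm hf g hg
    have hg' : Multiplicative.toAdd (F.ψ g) = m := by rw [hg]; rfl
    have hn : S.NoInv g := F.noInv g (by rw [hg']; exact nil_noInv m hm)
    exact ⟨hW4, hA, g.2, hn, S.noInvol_of_fixed hW4 g.2
      (hnotC g (by rw [hg']; exact nil_ne_zero m hm)) hn (hfixed g (by rw [hg']; exact hf))⟩
  have hbadH : ∀ m, (m = eN0 ∨ m = eN1 ∨ m = eN2) → ((∀ x, x ∈ S.M) ∨ ad m = m) → e m ∈ P →
      ∃ h : H, S.Bad (h : G) := by
    rintro m hm hf ⟨g, hgH, hg⟩
    exact ⟨⟨g, hgH⟩, hbad m hm hf g hg⟩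
  have hom : ∀ g : S.M, (Multiplicative.toAdd (F.ψ g) = eOmega ∨
      Multiplicative.toAdd (F.ψ g) = eOmega') → S.NoInv g ∧ S.NoFix g := by
    rintro g (hg | hg)
    · exact ⟨F.noInv g fun v hv => by rw [hg]; exact (eOmega_noInv v hv).1,
        F.noFix g fun v hv => by rw [hg]; exact (eOmega_noInv v hv).2⟩
    · exact ⟨F.noInv g fun v hv => by rw [hg]; exact (eOmega'_noInv v hv).1,
        F.noFix g fun v hv => by rw [hg]; exact (eOmega'_noInv v hv).2⟩
  -- subgroups avoiding the elements of order three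
  have havoid : ∀ Q : Subgroup (Multiplicative End2), e eOmega ∉ Q → e eOmega' ∉ Q →
      8 ≤ Nat.card Q → Nat.card Q = 8 ∧ e eOne ∈ Q ∧
        ((e eN0 ∈ Q ∨ e eN1 ∈ Q) ∨ e eN2 ∈ Q) := by
    intro Q h1 h2 h3
    obtain ⟨i, hi⟩ := exists_pow_two h2grp Q
    have hm := card_mul_index Q
    rw [show Nat.card (Multiplicative End2) = 16 by simp] at hm
    have hi2 : Q.index ≤ 2 := Nat.le_of_mul_le_mul_left
      (show 8 * Q.index ≤ 8 * 2 from (Nat.mul_le_mul_right _ h3).trans hm.le) (Nat.succ_pos 7)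
    have hidx2 : Q.index = 2 := by
      rcases Nat.lt_or_ge Q.index 2 with hlt | hge
      · have : Q = ⊤ := index_eq_one.mp (by
          have := Nat.pos_of_ne_zero (index_ne_zero_of_finite (H := Q)); omega)
        exact absurd (this ▸ mem_top (e eOmega)) h1
      · omega
    rw [hidx2] at hm
    have hone : e eOne ∈ Q := by
      rw [← sums.1]
      exact (mul_mem_iff_of_index_two hidx2).mpr (iff_of_false h1 h2)
    refine ⟨by omega, hone, ?_⟩
    by_contra! hno
    obtain ⟨⟨a, b⟩, c⟩ := hno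
    rw [← sums.2.1] at hone
    exact c (((mul_mem_iff_of_index_two hidx2).mp hone).mp
      ((mul_mem_iff_of_index_two hidx2).mpr (iff_of_false a b)))
  have hlelist : ∀ (Q : Subgroup (Multiplicative End2)) (l : Finset End2),
      (∀ m, e m ∈ Q → m ∈ l) → Nat.card Q ≤ l.card := by
    intro Q l hl
    have := Nat.card_le_card_of_injective
      (fun x : Q => (⟨Multiplicative.toAdd (x : Multiplicative End2), hl _ x.2⟩ : l))
      fun x y h => Subtype.ext (congrArg (fun u : l => Multiplicative.ofAdd (u : End2)) h)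
    simpa using this
  by_cases htop : ∀ x, x ∈ S.M
  · -- all cosets are fixed
    have hno : e eOmega ∉ Φ ∧ e eOmega' ∉ Φ := by
      have key : ∀ m, (m = eOmega ∨ m = eOmega') → e m ∉ Φ := by
        intro m hm hmΦ
        obtain ⟨g, hg⟩ := hmem m hmΦ
        have hg' : Multiplicative.toAdd (F.ψ g) = m := by rw [hg]; rfl
        obtain ⟨h1, h2⟩ := hom g (hg' ▸ hm)
        refine S.noInvol_excludes hW4 hA g.2 h1 h2 (S.noInvol_of_fixed hW4 g.2 ?_ h1
          (hfixed g (Or.inl htop)))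
        refine hnotC g ?_
        rw [hg']
        rcases hm with rfl | rfl
        exacts [omega_ne_zero.1, omega_ne_zero.2]
      exact ⟨key _ (Or.inl rfl), key _ (Or.inr rfl)⟩
    have hHM : H ⊓ S.M = H := inf_eq_left.mpr fun x _ => htop x
    rw [hHM] at hPcard
    obtain ⟨hc, -, hN⟩ := havoid P (fun h => hno.1 (hPΦ h)) (fun h => hno.2 (hPΦ h)) (by omega)
    refine Or.inr ⟨by omega, ?_⟩
    rcases hN with (h | h) | h
    · exact hbadH _ (Or.inl rfl) (Or.inl htop) h
    · exact hbadH _ (Or.inr (Or.inl rfl)) (Or.inl htop) h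
    · exact hbadH _ (Or.inr (Or.inr rfl)) (Or.inl htop) h
  obtain ⟨t, ht⟩ := not_forall.mp htop
  have hM2 := S.index_M_le_two F
  have hadΦ : ∀ m, e m ∈ Φ → e (ad m) ∈ Φ := by
    intro m hm
    obtain ⟨g, hg⟩ := hmem m hm
    refine ⟨⟨_, S.normalM.conj_mem _ g.2 t⟩, ?_⟩
    rw [F.ψ_conj ht g _ rfl, hg]
    rfl
  have hCidx : S.C.index ≤ Nat.card Φ * 2 := by
    rw [hΦcard]
    exact S.index_le_mul.trans (Nat.mul_le_mul_left _ hM2)
  have hHidx : S.C.relIndex H ≤ Nat.card P * 2 := by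
    rw [hPcard]
    exact (S.relIndex_le_mul H).trans (Nat.mul_le_mul_left _ hM2)
  have hallfix : S.C.relIndex H = S.C.index → r = S.C.relIndex H →
      ∀ m, e m ∈ Φ → ad m = m := by
    intro h1 h2 m hm
    obtain ⟨g, hg⟩ := hmem m hm
    have := hconj t ht g (S.comm_all h1 (habel h2) t g)
    rwa [hg] at this
  by_cases homega : e eOmega ∈ Φ ∨ e eOmega' ∈ Φ
  · exfalso
    obtain ⟨h1, h2⟩ : e eOmega ∈ Φ ∧ e eOmega' ∈ Φ := by
      rcases homega with h | h
      · exact ⟨h, sums.2.2.2.1 ▸ hadΦ _ h⟩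
      · exact ⟨sums.2.2.2.2.1 ▸ hadΦ _ h, h⟩
    have hone : e eOne ∈ Φ := by rw [← sums.1]; exact mul_mem h1 h2
    have hN0 : e eN0 ∉ Φ := by
      intro hN
      obtain ⟨g, hg⟩ := hmem _ h1
      obtain ⟨g', hg'⟩ := hmem _ hN
      obtain ⟨i1, i2⟩ := hom g (Or.inl (by rw [hg]; rfl))
      obtain ⟨-, -, -, j1, j2⟩ := hbad eN0 (Or.inl rfl) (Or.inr sums.2.2.2.2.2.1) g' hg'
      exact S.not_noInvol hW4 hA g.2 i1 i2 g'.2 j1 j2
    have hspan : ∀ m ∈ omegaSpan, e m ∈ Φ := by
      intro m hm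
      rcases omegaSpan_eq m hm with rfl | rfl | rfl | rfl
      exacts [Φ.one_mem, mul_mem h1 h2, h1, h2]
    have hle : Nat.card Φ ≤ 4 := (hlelist Φ omegaSpan fun m hm => by
      rcases omega_cases m with h | h | h | h
      · exact h
      · refine absurd ?_ hN0
        have := mul_mem hm (hspan _ h)
        rwa [← ofAdd_add, ← add_assoc, show m + m = 0 from
          end2_add_self m, zero_add] at this
      · exact absurd (h ▸ mul_mem hm (hadΦ _ hm)) hN0
      · exact absurd (h ▸ mul_mem (mul_mem hm (hadΦ _ hm)) hone) hN0).trans (by decide)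
    have hcon := hallfix (by omega) (by omega) _ h1
    rw [sums.2.2.2.1] at hcon
    exact absurd hcon (by decide)
  push Not at homega
  have hN0of : ∀ Q : Subgroup (Multiplicative End2), (∀ m, e m ∈ Q → e (ad m) ∈ Q) →
      e eOne ∈ Q → ((e eN0 ∈ Q ∨ e eN1 ∈ Q) ∨ e eN2 ∈ Q) → e eN0 ∈ Q := by
    intro Q had h1 hN
    rcases hN with (h | h) | h
    · exact h
    · have h' := sums.2.2.2.2.2.2.1 ▸ had _ h
      rw [← sums.2.2.1]
      exact mul_mem (mul_mem h1 h) h'
    · have h' := sums.2.2.2.2.2.2.2 ▸ had _ h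
      rw [← sums.2.2.1]
      exact mul_mem (mul_mem h1 h') h
  obtain ⟨j, hj⟩ := (h2grp.to_subgroup P).exists_card_eq
  by_cases hP8 : 8 ≤ Nat.card P
  · obtain ⟨hc, -, -⟩ := havoid P (fun h => homega.1 (hPΦ h)) (fun h => homega.2 (hPΦ h)) hP8
    have hΦ8 := Subgroup.card_le_of_le hPΦ
    obtain ⟨hΦc, hone, hN⟩ := havoid Φ homega.1 homega.2 (by omega)
    have hPeq : P = Φ := eq_of_le_of_card_ge hPΦ (by omega)
    have hN0 := hN0of Φ hadΦ hone hN
    refine Or.inr ⟨?_, hbadH _ (Or.inl rfl) (Or.inr sums.2.2.2.2.2.1) (hPeq ▸ hN0)⟩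
    by_contra hr8
    have hlt : 8 < r := by omega
    have h16 : 16 ≤ r := by
      by_contra h
      have := (le_of_pow_two (b := 16) hk (by omega)).2.2 rfl
      omega
    have hfix := hallfix (by omega) (by omega)
    have h4' : Nat.card Φ ≤ 4 := (hlelist Φ (insert eN0 fixedRest) fun m hm =>
      Finset.mem_insert.mpr (fixed_cases m (hfix m hm))).trans (by decide)
    omega
  have hP4 : Nat.card P ≤ 4 := (le_of_pow_two hj (by omega : Nat.card P < 8)).2.1 rfl
  obtain ⟨x, hxH, hxM⟩ : ∃ x ∈ H, x ∉ S.M := by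
    by_contra! h
    rw [inf_eq_left.mpr h] at hPcard
    omega
  have hr' : r = S.C.relIndex H := by omega
  have hP0 : e eN0 ∈ P := by
    by_contra hN
    have : Nat.card P ≤ 3 := (hlelist P fixedRest fun m hm => by
      obtain ⟨g, hgH, hg⟩ := hm
      have h1 := hconj x hxM g (habel hr' x hxH g hgH)
      rw [hg] at h1
      rcases fixed_cases m h1 with rfl | h
      · exact absurd ⟨g, hgH, hg⟩ hN
      · exact h).trans (by decide)
    omega
  exact Or.inr ⟨by omega, hbadH _ (Or.inl rfl) (Or.inr sums.2.2.2.2.2.1) hP0⟩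

theorem normal_of_sq {H : Type*} [Group H] (K : Subgroup H) (hK : ∀ x : H, x * x ∈ K) :
    K.Normal := by
  refine ⟨fun x hx g => ?_⟩
  have e : g * x * g⁻¹ = (g * x * (g * x)) * x⁻¹ * (g⁻¹ * g⁻¹) := by group
  rw [e]
  exact mul_mem (mul_mem (hK _) (inv_mem hx)) (hK _)

theorem Setup.index_le (S : Setup G) {H : Subgroup G} (K : Subgroup H) (hK : ∀ x : H, x * x ∈ K) :
    K.index ≤ 16 := by
  haveI := normal_of_sq K hK
  have hT := S.relIndex_T_le K hK
  have e : K.relIndex (K ⊔ S.C.subgroupOf H) = K.relIndex (S.C.subgroupOf H) :=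
    relIndex_sup_left _ _
  rw [← relIndex_mul_index (le_sup_left : K ≤ K ⊔ S.C.subgroupOf H), e]
  rcases S.small_or_bad K hK with h | ⟨h, hb⟩
  · exact (Nat.mul_le_mul hT.1 h).trans le_rfl
  · exact (Nat.mul_le_mul (hT.2 hb) h).trans le_rfl

end Cfsg.Agent.PGroups.FourGenerator
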