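import Cfsg.Agent.Lib.PGroups.AbelianNormal
import Mathlib.Data.Fintype.Order
import Mathlib.Order.Preorder.Finite

/-!
Two-groups without normal elementary abelian subgroups of order eight, part one:
a maximal normal abelian subgroup `A` of exponent at most four contains every element of order
at most four of its centralizer.
-/

set_option autoImplicit false

namespace Cfsg.Agent.PGroups.FourGenerator

open Subgroup

variable {G : Type*} [Group G]

theorem exists_order_four [Finite G] (hG : IsPGroup 2 G) {v : G} (hv : v ^ 2 ≠ 1) :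
    ∃ n : ℕ, (v ^ n) ^ 4 = 1 ∧ (v ^ n) ^ 2 ≠ 1 := by
  obtain ⟨k, hk⟩ := hG v
  have key : ∀ k, v ^ 2 ^ k = 1 → ∃ n : ℕ, (v ^ n) ^ 4 = 1 ∧ (v ^ n) ^ 2 ≠ 1 := by
    intro k
    induction k with
    | zero => intro h; exact absurd (by rw [pow_zero, pow_one] at h; rw [h, one_pow]) hv
    | succ k ih =>
      intro h
      by_cases hk' : v ^ 2 ^ k = 1
      · exact ih hk'
      · cases k with
        | zero => exact absurd (by simpa using h) hv
        | succ j =>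
          refine ⟨2 ^ j, ?_, ?_⟩
          · rw [← pow_mul, ← h]; ring_nf
          · rw [← pow_mul, ← pow_succ]; exact hk'
  exact key k hk

/-- An element inverted by `y` inside a subgroup whose elements of order at most four commute with
`y` has square one. -/
theorem inverted_sq [Finite G] (hG : IsPGroup 2 G) {A K : Subgroup G} {v y : G}
    (hK : ∀ x ∈ K, x ^ 4 = 1 → x ∈ A) (hy : ∀ a ∈ A, a * y = y * a) (hv : v ∈ K)
    (h : y * v * y⁻¹ = v⁻¹) : v ^ 2 = 1 := by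
  by_contra hne
  obtain ⟨n, h4, h2⟩ := exists_order_four hG hne
  have hc := hy _ (hK _ (pow_mem hv n) h4)
  have h1 : y * v ^ n * y⁻¹ = v ^ n := by rw [← hc, mul_inv_cancel_right]
  rw [← conj_pow, h, inv_pow] at h1
  exact h2 (by rw [sq]; nth_rewrite 1 [← h1]; rw [inv_mul_cancel])

/-- The conjugate of `x⁻¹ * y` by `x` when both squares are central for both. -/
theorem conj_inv_mul (x y : G) :
    x * (x⁻¹ * y) * x⁻¹ = y ^ 2 * (x⁻¹ * y)⁻¹ * (x ^ 2)⁻¹ := by
  simp only [sq, mul_inv_rev, inv_inv, mul_assoc, mul_inv_cancel_left]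

/-- Maximal normal abelian subgroups of exponent at most four exist. -/
theorem exists_maximal (G : Type*) [Group G] [Finite G] : ∃ A : Subgroup G,
    Maximal (fun B : Subgroup G => B.Normal ∧ (∀ a ∈ B, ∀ b ∈ B, a * b = b * a) ∧
      ∀ a ∈ B, a ^ 4 = 1) A := by
  obtain ⟨A, -, hA⟩ := Finite.exists_le_maximal
    (p := fun B : Subgroup G => B.Normal ∧ (∀ a ∈ B, ∀ b ∈ B, a * b = b * a) ∧
      ∀ a ∈ B, a ^ 4 = 1) (a := ⊥)
    ⟨inferInstance, fun a ha b hb => by rw [mem_bot.mp ha, mem_bot.mp hb],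
      fun a ha => by rw [mem_bot.mp ha, one_pow]⟩
  exact ⟨A, hA⟩

/-- Alperin's lemma for exponent four. -/
theorem pow_four_mem [Finite G] (hG : IsPGroup 2 G) {A : Subgroup G} [A.Normal]
    (hc : ∀ a ∈ A, ∀ b ∈ A, a * b = b * a) (h4 : ∀ a ∈ A, a ^ 4 = 1)
    (hmax : ∀ B : Subgroup G, B.Normal → (∀ a ∈ B, ∀ b ∈ B, a * b = b * a) →
      (∀ a ∈ B, a ^ 4 = 1) → A ≤ B → B ≤ A) :
    ∀ x, (∀ a ∈ A, a * x = x * a) → x ^ 4 = 1 → x ∈ A := by
  haveI : Fact (Nat.Prime 2) := ⟨Nat.prime_two⟩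
  have hAC : A ≤ centralizer (A : Set G) := fun a ha b hb => hc b hb a ha
  obtain ⟨K, -, ⟨hKn, hKA, hKC, hKS⟩, hKmax⟩ := Finite.exists_le_maximal
    (p := fun K : Subgroup G => K.Normal ∧ A ≤ K ∧ K ≤ centralizer (A : Set G) ∧
      ∀ x ∈ K, x ^ 4 = 1 → x ∈ A) (a := A)
    ⟨inferInstance, le_rfl, hAC, fun x hx _ => hx⟩
  haveI := hKn
  intro x hx hx4
  by_cases hK : K = centralizer (A : Set G)
  · exact hKS x (hK ▸ fun a ha => hx a ha) hx4
  exfalso
  obtain ⟨y, hyC, hyK, hy2, hyg⟩ := AbelianNormal.exists_step hG (lt_of_le_of_ne hKC hK)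
  have hLn := AbelianNormal.normal_sup_zpowers hyg
  have hLC : K ⊔ zpowers y ≤ centralizer (A : Set G) := sup_le hKC (zpowers_le.mpr hyC)
  obtain ⟨r, hrL, hr4, hrA⟩ : ∃ r ∈ K ⊔ zpowers y, r ^ 4 = 1 ∧ r ∉ A := by
    by_contra! h
    exact hyK (hKmax ⟨hLn, hKA.trans le_sup_left, hLC, h⟩ le_sup_left
      (mem_sup_right (mem_zpowers y)))
  -- the image of `r` modulo `K` is central of order at most two
  obtain ⟨hr2, hrg⟩ : r ^ 2 ∈ K ∧ ∀ g : G, g * r * g⁻¹ * r⁻¹ ∈ K := by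
    have hk : K.map (QuotientGroup.mk' K) = ⊥ := QuotientGroup.map_mk'_self K
    have hm : (QuotientGroup.mk' K) r ∈ (K ⊔ zpowers y).map (QuotientGroup.mk' K) :=
      mem_map_of_mem _ hrL
    rw [Subgroup.map_sup, hk, bot_sup_eq, MonoidHom.map_zpowers, mem_zpowers_iff] at hm
    obtain ⟨i, hi⟩ := hm
    refine ⟨(QuotientGroup.eq_one_iff _).mp ?_, fun g => (QuotientGroup.eq_one_iff _).mp ?_⟩
    · change (QuotientGroup.mk' K) (r ^ 2) = 1
      rw [map_pow, ← hi, ← zpow_natCast, ← zpow_mul, mul_comm, zpow_mul, zpow_natCast,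
        ← map_pow, show (QuotientGroup.mk' K) (y ^ 2) = 1 from (QuotientGroup.eq_one_iff _).mpr hy2,
        one_zpow]
    · change (QuotientGroup.mk' K) (g * r * g⁻¹ * r⁻¹) = 1
      have hc1 : (QuotientGroup.mk' K) g * (QuotientGroup.mk' K) y * ((QuotientGroup.mk' K) g)⁻¹
          = (QuotientGroup.mk' K) y := by
        have := (QuotientGroup.eq_one_iff _).mpr (hyg g)
        change (QuotientGroup.mk' K) (g * y * g⁻¹ * y⁻¹) = 1 at this
        rwa [map_mul, map_mul, map_mul, map_inv, map_inv, mul_inv_eq_one] at this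
      rw [map_mul, map_mul, map_mul, map_inv, map_inv, ← hi, ← conj_zpow, hc1, mul_inv_cancel]
  have hrC : ∀ a ∈ A, a * r = r * a := fun a ha => hLC hrL a ha
  have hra : r ^ 2 ∈ A := hKS _ hr2 (by rw [← pow_mul, mul_comm, pow_mul, hr4, one_pow])
  have key : ∀ g : G, g * r * g⁻¹ * r⁻¹ ∈ A := by
    intro g
    set z := g * r * g⁻¹ with hz
    have hz4 : z ^ 4 = 1 := by rw [hz, conj_pow, hr4, mul_one, mul_inv_cancel]
    have hza : z ^ 2 ∈ A := by rw [hz, conj_pow]; exact Normal.conj_mem inferInstance _ hra g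
    have hu : r⁻¹ * z ∈ K := by
      have := Normal.conj_mem hKn _ (hrg g) r⁻¹
      simpa [hz, mul_assoc] using this
    have hzC : z ∈ centralizer (A : Set G) := Normal.conj_mem inferInstance r (hLC hrL) g
    set u := r⁻¹ * z with hu'
    have e : r * u * r⁻¹ = (z ^ 2 * (r ^ 2)⁻¹) * u⁻¹ := by
      rw [hu', conj_inv_mul r z, ← hu', mul_assoc, mul_assoc]
      congr 1
      exact ((show Commute ((r ^ 2)⁻¹) u⁻¹ from
        ((Commute.inv_inv (show Commute (r ^ 2) u from hKC hu _ hra))))).symm.eq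
    set w := z ^ 2 * (r ^ 2)⁻¹
    have hwA : w ∈ A := mul_mem hza (inv_mem hra)
    have hw2 : w ^ 2 = 1 := by
      rw [Commute.mul_pow (show Commute (z ^ 2) ((r ^ 2)⁻¹) from hc _ hza _ (inv_mem hra)),
        ← pow_mul, hz4, inv_pow, ← pow_mul, hr4, inv_one, mul_one]
    have hwu : Commute w u⁻¹ := (show Commute w u from hKC hu _ hwA).inv_right
    have h2 : r * u ^ 2 * r⁻¹ = (u ^ 2)⁻¹ := by
      rw [← conj_pow, e, hwu.mul_pow, hw2, one_mul, inv_pow]
    have hu4 : u ^ 4 = 1 := by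
      rw [show (4 : ℕ) = 2 * 2 from rfl, pow_mul]
      exact inverted_sq hG hKS hrC (pow_mem hu 2) h2
    have huA : u ∈ A := hKS u hu hu4
    have : g * r * g⁻¹ * r⁻¹ = r * u * r⁻¹ := by rw [hu', mul_inv_cancel_left]
    rw [this]
    exact Normal.conj_mem inferInstance u huA r
  refine hrA (hmax _ (AbelianNormal.normal_sup_zpowers key) ?_ ?_ le_sup_left
    (mem_sup_right (mem_zpowers r)))
  · intro a ha b hb
    haveI : IsMulCommutative A := ⟨⟨fun a b => Subtype.ext (hc a a.2 b b.2)⟩⟩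
    exact AbelianNormal.le_centralizer_sup_zpowers (show r ∈ centralizer (A : Set G) from hrC)
      hb a ha
  · intro a ha
    obtain ⟨b, hb, s, hs, rfl⟩ := mem_sup_of_normal_left.mp ha
    obtain ⟨i, rfl⟩ := mem_zpowers_iff.mp hs
    rw [(Commute.zpow_right (hrC b hb) i).mul_pow, h4 b hb, one_mul, ← zpow_natCast, ← zpow_mul,
      mul_comm, zpow_mul, zpow_natCast, hr4, one_zpow]

/-- The data of the argument. -/
structure Setup (G : Type*) [Group G] where
  isTwo : IsPGroup 2 G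
  A : Subgroup G
  W : Subgroup G
  normalA : A.Normal
  normalW : W.Normal
  comm : ∀ a ∈ A, ∀ b ∈ A, a * b = b * a
  exp4 : ∀ a ∈ A, a ^ 4 = 1
  memW : ∀ x, x ∈ W ↔ x ∈ A ∧ x ^ 2 = 1
  cardW : Nat.card W ≤ 4
  self : ∀ x, (∀ a ∈ A, a * x = x * a) → x ^ 4 = 1 → x ∈ A
  noE8 : Nat.card W = 4 → ∀ x, x ^ 2 = 1 → (∀ w ∈ W, w * x = x * w) → x ∉ W →
    ∃ g, g * x * g⁻¹ * x⁻¹ ∉ W

theorem exists_setup [Finite G] (hG : IsPGroup 2 G)
    (h : ∀ A : Subgroup G, A.Normal → IsMulCommutative A → (∀ a ∈ A, a ^ 2 = 1) →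
      Nat.card A ≤ 4) : Nonempty (Setup G) := by
  obtain ⟨A, ⟨hAn, hc, h4⟩, hmax⟩ := exists_maximal G
  haveI := hAn
  let W : Subgroup G :=
    { carrier := {x | x ∈ A ∧ x ^ 2 = 1}
      one_mem' := ⟨A.one_mem, one_pow 2⟩
      mul_mem' := fun {a b} ha hb => ⟨A.mul_mem ha.1 hb.1, by
        rw [(show Commute a b from hc a ha.1 b hb.1).mul_pow, ha.2, hb.2, one_mul]⟩
      inv_mem' := fun {a} ha => ⟨A.inv_mem ha.1, by rw [inv_pow, ha.2, inv_one]⟩ }
  have hWn : W.Normal := ⟨fun x hx g =>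
    ⟨hAn.conj_mem x hx.1 g, by rw [conj_pow, hx.2, mul_one, mul_inv_cancel]⟩⟩
  haveI := hWn
  refine ⟨⟨hG, A, W, hAn, hWn, hc, h4, fun _ => Iff.rfl,
    h W hWn ⟨⟨fun a b => Subtype.ext (hc a a.2.1 b b.2.1)⟩⟩ fun a ha => ha.2,
    pow_four_mem hG hc h4 fun B h1 h2 h3 hAB => hmax ⟨h1, h2, h3⟩ hAB, ?_⟩⟩
  intro hW x hx2 hxW hx
  by_contra! hg
  haveI : IsMulCommutative W := ⟨⟨fun a b => Subtype.ext (hc a a.2.1 b b.2.1)⟩⟩
  have hle := h _ (AbelianNormal.normal_sup_zpowers hg) ⟨⟨fun a b => Subtype.ext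
    (AbelianNormal.le_centralizer_sup_zpowers
      (show x ∈ centralizer (W : Set G) from hxW) b.2 a a.2)⟩⟩ fun a ha => by
      obtain ⟨b, hb, s, hs, rfl⟩ := mem_sup_of_normal_left.mp ha
      obtain ⟨i, rfl⟩ := mem_zpowers_iff.mp hs
      rw [(Commute.zpow_right (hxW b hb) i).mul_pow, hb.2, one_mul, ← zpow_natCast, ← zpow_mul,
        mul_comm, zpow_mul, zpow_natCast, hx2, one_zpow]
  have heq := eq_of_le_of_card_ge (le_sup_left : W ≤ W ⊔ zpowers x) (hle.trans hW.ge)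
  exact hx (heq ▸ mem_sup_right (mem_zpowers x))

end Cfsg.Agent.PGroups.FourGenerator
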