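import Cfsg.Agent.Lib.PGroups.FourGenerator.Local
import Mathlib.Data.ZMod.Basic

/-!
Two-groups without normal elementary abelian subgroups of order eight, part three:
the action on `A ≅ C₄ × C₄` written in coordinates over the field of two elements.
-/

set_option autoImplicit false

namespace Cfsg.Agent.PGroups.FourGenerator

open Subgroup

/-- Coordinates on `W`. -/
abbrev Vec := ZMod 2 × ZMod 2

/-- Endomorphisms of `Vec`, given by the images of the basis vectors. -/
abbrev End2 := Vec × Vec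

/-- Evaluation of an endomorphism. -/
def app (m : End2) (v : Vec) : Vec :=
  (if v.1 = 1 then m.1 else 0) + (if v.2 = 1 then m.2 else 0)

/-- The transvection fixing the first basis vector. -/
def tv (v : Vec) : Vec := (v.1 + v.2, v.2)

/-- Conjugation by the transvection. -/
def ad (m : End2) : End2 := (tv m.1, tv (m.1 + m.2))

/-- The identity. -/
def eOne : End2 := ((1, 0), (0, 1))
/-- An element of order three. -/
def eOmega : End2 := ((0, 1), (1, 1))
/-- The inverse of `eOmega`. -/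
def eOmega' : End2 := ((1, 1), (1, 0))
/-- The nilpotent commuting with the transvection. -/
def eN0 : End2 := ((0, 0), (1, 0))
/-- A nilpotent. -/
def eN1 : End2 := ((0, 1), (0, 0))
/-- A nilpotent. -/
def eN2 : End2 := ((1, 1), (1, 1))
/-- The endomorphisms fixed under `ad`, other than `eN0`. -/
def fixedRest : Finset End2 := {0, eOne, eOne + eN0}
/-- The algebra spanned by `eOmega`. -/
def omegaSpan : Finset End2 := {0, eOne, eOmega, eOmega'}

theorem fixed_cases : ∀ m : End2, ad m = m → m = eN0 ∨ m ∈ fixedRest := by decide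

theorem omega_cases : ∀ m : End2, m ∈ omegaSpan ∨ m + eN0 ∈ omegaSpan ∨ m + ad m = eN0 ∨
    m + ad m + eOne = eN0 := by decide

theorem omegaSpan_eq : ∀ m ∈ omegaSpan, m = 0 ∨ m = eOmega + eOmega' ∨ m = eOmega ∨ m = eOmega' := by
  decide

theorem sums : eOmega + eOmega' = eOne ∧ eN0 + eN1 + eN2 = eOne ∧ eOne + eN1 + eN2 = eN0 ∧
    ad eOmega = eOmega' ∧ ad eOmega' = eOmega ∧ ad eN0 = eN0 ∧ ad eN1 = eN2 ∧ ad eN2 = eN1 := by
  decide

theorem omega_ne_zero : eOmega ≠ 0 ∧ eOmega' ≠ 0 := by decide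
theorem end2_add_self : ∀ x : End2, x + x = 0 := by decide
theorem eOmega_noInv : ∀ v : Vec, v ≠ 0 → app eOmega v ≠ v ∧ app eOmega v ≠ 0 := by decide
theorem eOmega'_noInv : ∀ v : Vec, v ≠ 0 → app eOmega' v ≠ v ∧ app eOmega' v ≠ 0 := by decide
theorem nil_noInv : ∀ m : End2, m = eN0 ∨ m = eN1 ∨ m = eN2 →
    ∀ v : Vec, v ≠ 0 → app m v ≠ v := by decide
theorem nil_ne_zero : ∀ m : End2, m = eN0 ∨ m = eN1 ∨ m = eN2 → m ≠ 0 := by decide

variable {G : Type*} [Group G]

/-- A basis of `W` and square roots of it in `A`. -/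
structure Frame (S : Setup G) where
  z : G
  w : G
  az : G
  aw : G
  zW : z ∈ S.W
  wW : w ∈ S.W
  azA : az ∈ S.A
  awA : aw ∈ S.A
  az_sq : az ^ 2 = z
  aw_sq : aw ^ 2 = w
  z_ne : z ≠ 1
  w_ne : w ≠ 1
  wz : w ≠ z
  central : ∀ g, g * z * g⁻¹ = z
  card : Nat.card S.W = 4

namespace Frame

variable {S : Setup G} (F : Frame S)

/-- The vector with given coordinates. -/
def p (v : Vec) : G := F.z ^ v.1.val * F.w ^ v.2.val

theorem p_mem (v : Vec) : F.p v ∈ S.W := mul_mem (pow_mem F.zW _) (pow_mem F.wW _)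

theorem p_add (u v : Vec) : F.p (u + v) = F.p u * F.p v := by
  have h : ∀ (x : G), x ^ 2 = 1 → ∀ a b : ZMod 2, x ^ (a + b).val = x ^ a.val * x ^ b.val :=
    fun x hx a b => by rw [ZMod.val_add, ← pow_eq_pow_mod _ hx, pow_add]
  have hc : Commute (F.z ^ v.1.val) (F.w ^ u.2.val) :=
    S.comm _ (S.W_le_A (pow_mem F.zW _)) _ (S.W_le_A (pow_mem F.wW _))
  rw [p, p, p, Prod.fst_add, Prod.snd_add, h _ (S.sq_W F.zW), h _ (S.sq_W F.wW), mul_assoc,
    ← mul_assoc (F.z ^ v.1.val), hc.eq]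
  simp only [mul_assoc]

theorem p_zero : F.p 0 = 1 := by simp [p]

theorem zw_ne : F.z * F.w ≠ 1 := fun h => F.wz <| by
  rw [eq_inv_of_mul_eq_one_right h, S.inv_W F.zW]

theorem p_injective : Function.Injective F.p := by
  intro u v h
  have h2 : F.p (u + v) = 1 := by rw [F.p_add, h, ← sq, S.sq_W (F.p_mem v)]
  have : u + v = 0 := by
    generalize u + v = x at h2
    obtain ⟨a, b⟩ := x
    have e0 : ZMod.val (0 : ZMod 2) = 0 := rfl
    have e1 : ZMod.val (1 : ZMod 2) = 1 := rfl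
    have h01 : ∀ a : ZMod 2, a = 0 ∨ a = 1 := by decide
    rcases h01 a with rfl | rfl <;> rcases h01 b with rfl | rfl
    · rfl
    all_goals exfalso; simp only [p, e0, e1, pow_zero, pow_one, one_mul, mul_one] at h2
    · exact F.w_ne h2
    · exact F.z_ne h2
    · exact F.zw_ne h2
  calc u = u + v + v := by rw [add_assoc, show v + v = 0 from (show ∀ x : Vec, x + x = 0 by decide) v, add_zero]
    _ = v := by rw [this, zero_add]

/-- Coordinates of an element. -/
noncomputable def q (x : G) : Vec := Function.invFun F.p x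

theorem q_p (v : Vec) : F.q (F.p v) = v := Function.leftInverse_invFun F.p_injective v

theorem p_q [Finite G] {x : G} (hx : x ∈ S.W) : F.p (F.q x) = x := by
  have hb : Function.Bijective (fun v : Vec => (⟨F.p v, F.p_mem v⟩ : S.W)) :=
    (Nat.bijective_iff_injective_and_card _).mpr
      ⟨fun u v h => F.p_injective (congrArg Subtype.val h), by rw [F.card]; simp⟩
  obtain ⟨v, hv⟩ := hb.2 ⟨x, hx⟩
  have : F.p v = x := congrArg Subtype.val hv
  rw [← this, F.q_p]

theorem q_mul [Finite G] {x y : G} (hx : x ∈ S.W) (hy : y ∈ S.W) :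
    F.q (x * y) = F.q x + F.q y := by
  conv_lhs => rw [← F.p_q hx, ← F.p_q hy, ← F.p_add, F.q_p]

theorem q_one : F.q 1 = 0 := by rw [← F.p_zero, F.q_p]

theorem p_10 : F.p (1, 0) = F.z := by simp [p, show ZMod.val (1 : ZMod 2) = 1 from rfl]
theorem p_01 : F.p (0, 1) = F.w := by simp [p, show ZMod.val (1 : ZMod 2) = 1 from rfl]

/-- The endomorphism of `W` induced by an element of the centralizer of `W`. -/
noncomputable def ψ [Finite G] : S.M →* Multiplicative End2 :=
  MonoidHom.mk' (fun g => Multiplicative.ofAdd (F.q (delta g F.az), F.q (delta g F.aw)))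
    fun g h => by
      rw [coe_mul, S.delta_mul g.2 h.2 F.azA, S.delta_mul g.2 h.2 F.awA,
        F.q_mul (S.delta_mem_W g.2 F.azA) (S.delta_mem_W h.2 F.azA),
        F.q_mul (S.delta_mem_W g.2 F.awA) (S.delta_mem_W h.2 F.awA), ← ofAdd_add]
      rfl

variable [Finite G]

theorem ψ_fst (g : S.M) : F.p (Multiplicative.toAdd (F.ψ g)).1 = delta (g : G) F.az :=
  F.p_q (S.delta_mem_W g.2 F.azA)

theorem ψ_snd (g : S.M) : F.p (Multiplicative.toAdd (F.ψ g)).2 = delta (g : G) F.aw :=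
  F.p_q (S.delta_mem_W g.2 F.awA)

theorem delta_eq (g : S.M) {a : G} (ha : a ∈ S.A) :
    delta (g : G) a = F.p (app (Multiplicative.toAdd (F.ψ g)) (F.q (a ^ 2))) := by
  have hpq := F.p_q (S.sq_mem_W ha)
  generalize F.q (a ^ 2) = v at hpq ⊢
  have e1 : delta (g : G) 1 = 1 := by simp [delta]
  have h01 : ∀ a : ZMod 2, a = 0 ∨ a = 1 := by decide
  obtain ⟨i, j⟩ := v
  rcases h01 i with rfl | rfl <;> rcases h01 j with rfl | rfl <;>
    simp only [app, ↓reduceIte, zero_ne_one, add_zero, zero_add]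
  · rw [F.p_zero, ← e1]
    refine S.delta_congr g.2 S.A.one_mem ha ?_
    rw [one_pow, ← hpq, show ((0 : ZMod 2), (0 : ZMod 2)) = (0 : Vec) from rfl, F.p_zero]
  · rw [F.ψ_snd]
    exact S.delta_congr g.2 F.awA ha (by rw [F.aw_sq, ← hpq, F.p_01])
  · rw [F.ψ_fst]
    exact S.delta_congr g.2 F.azA ha (by rw [F.az_sq, ← hpq, F.p_10])
  · rw [F.p_add, F.ψ_fst, F.ψ_snd, ← S.delta_mul_right F.azA F.awA]
    refine S.delta_congr g.2 (mul_mem F.azA F.awA) ha ?_
    rw [(show Commute F.az F.aw from S.comm _ F.azA _ F.awA).mul_pow, F.az_sq, F.aw_sq, ← hpq,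
      ← F.p_10, ← F.p_01, ← F.p_add]
    rfl

theorem q_sq_ne {a : G} (ha : a ∈ S.A) (h : a ^ 2 ≠ 1) : F.q (a ^ 2) ≠ 0 := fun h0 =>
  h (by rw [← F.p_q (S.sq_mem_W ha), h0, F.p_zero])

theorem noInv (g : S.M) (h : ∀ v : Vec, v ≠ 0 → app (Multiplicative.toAdd (F.ψ g)) v ≠ v) :
    S.NoInv g := fun a ha ha2 heq => by
  refine h _ (F.q_sq_ne ha ha2) (F.p_injective ?_)
  rw [← F.delta_eq g ha, F.p_q (S.sq_mem_W ha), delta, heq, ← mul_inv_rev, ← sq,
    S.inv_W (S.sq_mem_W ha)]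

theorem noFix (g : S.M) (h : ∀ v : Vec, v ≠ 0 → app (Multiplicative.toAdd (F.ψ g)) v ≠ 0) :
    S.NoFix g := fun a ha ha2 heq => by
  refine h _ (F.q_sq_ne ha ha2) (F.p_injective ?_)
  rw [← F.delta_eq g ha, F.p_zero, delta, heq, inv_mul_cancel]

theorem ker_ψ : F.ψ.ker = S.C.subgroupOf S.M := by
  ext g
  rw [MonoidHom.mem_ker, mem_subgroupOf]
  constructor
  · intro h
    refine S.mem_C_of_delta fun a ha => ?_
    rw [F.delta_eq g ha, h, toAdd_one]
    simp [app, F.p_zero]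
  · intro h
    have e : ∀ a ∈ S.A, delta (g : G) a = 1 := fun a ha => by
      rw [delta, S.fix_A h ha, inv_mul_cancel]
    change Multiplicative.ofAdd (F.q (delta g F.az), F.q (delta g F.aw)) = 1
    rw [e _ F.azA, e _ F.awA, F.q_one]
    rfl

theorem move {t : G} (ht : t ∉ S.M) : t * F.w * t⁻¹ = F.z * F.w := by
  have hmem : t * F.w * t⁻¹ ∈ S.W := S.normalW.conj_mem _ F.wW t
  obtain ⟨⟨i, j⟩, hv⟩ : ∃ v, F.p v = t * F.w * t⁻¹ := ⟨_, F.p_q hmem⟩
  have hconj : Function.Injective fun x => t * x * t⁻¹ := fun x y h => by simpa using h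
  have e0 : ZMod.val (0 : ZMod 2) = 0 := rfl
  have e1 : ZMod.val (1 : ZMod 2) = 1 := rfl
  have h01 : ∀ a : ZMod 2, a = 0 ∨ a = 1 := by decide
  rcases h01 i with rfl | rfl <;> rcases h01 j with rfl | rfl <;>
    simp only [p, e0, e1, pow_zero, pow_one, one_mul, mul_one] at hv
  · exact absurd (hconj (a₁ := F.w) (a₂ := 1) (by simp [← hv])) F.w_ne
  · refine absurd (fun x hx => ?_) ht
    have hfix : t * x * t⁻¹ = x := by
      rw [← F.p_q hx, p, ← conj_mul, ← conj_pow, ← conj_pow, F.central t, ← hv]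
    calc x * t = t * x * t⁻¹ * t := by rw [hfix]
      _ = t * x := inv_mul_cancel_right _ _
  · exact absurd (hconj (a₁ := F.w) (a₂ := F.z) (by simp only [F.central t, ← hv])) F.wz
  · exact hv.symm

theorem conj_p {t : G} (ht : t ∉ S.M) (v : Vec) : t * F.p v * t⁻¹ = F.p (tv v) := by
  obtain ⟨i, j⟩ := v
  rw [p, ← conj_mul, ← conj_pow, ← conj_pow, F.central t, F.move ht]
  have h01 : ∀ a : ZMod 2, a = 0 ∨ a = 1 := by decide
  have e0 : ZMod.val (0 : ZMod 2) = 0 := rfl
  have e1 : ZMod.val (1 : ZMod 2) = 1 := rfl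
  rcases h01 i with rfl | rfl <;> rcases h01 j with rfl | rfl <;>
    simp [p, tv, e0, e1, ← mul_assoc, show (1 : ZMod 2) + 1 = 0 from rfl,
      (show F.z * F.z = 1 by rw [← sq, S.sq_W F.zW])]

/-- Conjugation by an element outside the centralizer of `W` acts as `ad`. -/
theorem ψ_conj {t : G} (ht : t ∉ S.M) (g g' : S.M) (h : (g' : G) = t * g * t⁻¹) :
    F.ψ g' = Multiplicative.ofAdd (ad (Multiplicative.toAdd (F.ψ g))) := by
  have key : ∀ a ∈ S.A, delta (g' : G) a = t * delta (g : G) (t⁻¹ * a * t) * t⁻¹ := fun a ha => by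
    rw [h]; unfold delta; group
  have hm : ∀ a ∈ S.A, t⁻¹ * a * t ∈ S.A := fun a ha => by
    simpa using S.normalA.conj_mem a ha t⁻¹
  have hs : ∀ a, (t⁻¹ * a * t) ^ 2 = t⁻¹ * a ^ 2 * t := fun a => by
    simpa using conj_pow (a := t⁻¹) (b := a) (i := 2)
  have hz : t⁻¹ * F.z * t = F.z := by simpa using F.central t⁻¹
  have hw : t⁻¹ * F.w * t = F.z * F.w := by
    have ht' : t⁻¹ ∉ S.M := fun hh => ht (by simpa using inv_mem hh)
    simpa using F.move ht'
  refine Multiplicative.toAdd.injective (Prod.ext (F.p_injective ?_) (F.p_injective ?_))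
  · rw [toAdd_ofAdd, F.ψ_fst, key _ F.azA,
      S.delta_congr g.2 F.azA (hm _ F.azA) (by rw [hs, F.az_sq, hz]), ← F.ψ_fst, F.conj_p ht]
    rfl
  · rw [toAdd_ofAdd, F.ψ_snd, key _ F.awA,
      S.delta_congr g.2 (mul_mem F.azA F.awA) (hm _ F.awA) (by
        rw [hs, F.aw_sq, hw, (show Commute F.az F.aw from S.comm _ F.azA _ F.awA).mul_pow,
          F.az_sq, F.aw_sq]),
      S.delta_mul_right F.azA F.awA, ← F.ψ_fst, ← F.ψ_snd, ← F.p_add, F.conj_p ht]
    rfl

end Frame

end Cfsg.Agent.PGroups.FourGenerator
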