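import Cfsg.Agent.Lib.PGroups.FourGenerator.Basic

/-!
Two-groups without normal elementary abelian subgroups of order eight, part two:
squares in the centralizer of `A` and involutions in its cosets.
-/

set_option autoImplicit false

namespace Cfsg.Agent.PGroups.FourGenerator

open Subgroup

variable {G : Type*} [Group G] (S : Setup G)

/-- The centralizer of `A`. -/
def Setup.C : Subgroup G := centralizer (S.A : Set G)

/-- The centralizer of `W`. -/
def Setup.M : Subgroup G := centralizer (S.W : Set G)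

/-- The displacement of `a` under conjugation by `g`. -/
def delta (g a : G) : G := a⁻¹ * (g * a * g⁻¹)

/-- No element of order four of `A` is inverted by `x`. -/
def Setup.NoInv (x : G) : Prop := ∀ a ∈ S.A, a ^ 2 ≠ 1 → x * a * x⁻¹ ≠ a⁻¹

/-- No element of order four of `A` is fixed by `x`. -/
def Setup.NoFix (x : G) : Prop := ∀ a ∈ S.A, a ^ 2 ≠ 1 → x * a * x⁻¹ ≠ a

/-- The coset of `g` modulo the centralizer of `A` contains no involution. -/
def Setup.NoInvol (g : G) : Prop := ∀ x, x * g⁻¹ ∈ S.C → x ^ 2 ≠ 1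

variable {S}

theorem Setup.mem_C {x : G} : x ∈ S.C ↔ ∀ a ∈ S.A, a * x = x * a := Iff.rfl

theorem Setup.mem_M {x : G} : x ∈ S.M ↔ ∀ w ∈ S.W, w * x = x * w := Iff.rfl

theorem Setup.W_le_A : S.W ≤ S.A := fun x hx => ((S.memW x).mp hx).1

theorem Setup.sq_W {x : G} (hx : x ∈ S.W) : x ^ 2 = 1 := ((S.memW x).mp hx).2

theorem Setup.inv_W {x : G} (hx : x ∈ S.W) : x⁻¹ = x :=
  inv_eq_of_mul_eq_one_left (by rw [← sq]; exact S.sq_W hx)

theorem Setup.sq_mem_W {a : G} (ha : a ∈ S.A) : a ^ 2 ∈ S.W :=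
  (S.memW _).mpr ⟨pow_mem ha 2, by rw [← pow_mul]; exact S.exp4 a ha⟩

theorem Setup.C_le_M : S.C ≤ S.M := fun _ hx w hw => hx w (S.W_le_A hw)

theorem Setup.normalC : S.C.Normal := by
  haveI := S.normalA; exact inferInstanceAs (centralizer (S.A : Set G)).Normal

theorem Setup.normalM : S.M.Normal := by
  haveI := S.normalW; exact inferInstanceAs (centralizer (S.W : Set G)).Normal

theorem Setup.A_le_C : S.A ≤ S.C := fun a ha b hb => S.comm b hb a ha

theorem Setup.fix_W {g w : G} (hg : g ∈ S.M) (hw : w ∈ S.W) : g * w * g⁻¹ = w := by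
  rw [← hg w hw, mul_inv_cancel_right]

theorem Setup.fix_A {g a : G} (hg : g ∈ S.C) (ha : a ∈ S.A) : g * a * g⁻¹ = a := by
  rw [← hg a ha, mul_inv_cancel_right]

theorem Setup.conj_congr {g x a : G} (h : x * g⁻¹ ∈ S.C) (ha : a ∈ S.A) :
    x * a * x⁻¹ = g * a * g⁻¹ := by
  calc x * a * x⁻¹ = (x * g⁻¹) * (g * a * g⁻¹) * (x * g⁻¹)⁻¹ := by group
    _ = g * a * g⁻¹ := S.fix_A h (S.normalA.conj_mem a ha g)

theorem Setup.NoInv.congr {g x : G} (hg : S.NoInv g) (h : x * g⁻¹ ∈ S.C) : S.NoInv x :=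
  fun a ha ha2 => by rw [S.conj_congr h ha]; exact hg a ha ha2

theorem Setup.noInv_of_mem_C {x : G} (hx : x ∈ S.C) : S.NoInv x := fun a ha ha2 h => by
  rw [S.fix_A hx ha] at h
  exact ha2 (by rw [sq]; nth_rewrite 2 [h]; exact mul_inv_cancel a)

theorem Setup.mem_W_of_inverted [Finite G] {x v : G} (hx : S.NoInv x) (hv : v ∈ S.C)
    (h : x * v * x⁻¹ = v⁻¹) : v ∈ S.W := by
  by_cases h2 : v ^ 2 = 1
  · exact (S.memW v).mpr ⟨S.self v hv (by
      rw [show (4 : ℕ) = 2 * 2 from rfl, pow_mul, h2, one_pow]), h2⟩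
  · obtain ⟨n, h4, hn2⟩ := exists_order_four S.isTwo h2
    exact absurd (by rw [← conj_pow, h, inv_pow]) (hx _ (S.self _ (pow_mem hv n) h4) hn2)

theorem Setup.mem_W_of_fixed [Finite G] {x v : G} (hx : S.NoFix x) (hv : v ∈ S.C)
    (h : x * v * x⁻¹ = v) : v ∈ S.W := by
  by_cases h2 : v ^ 2 = 1
  · exact (S.memW v).mpr ⟨S.self v hv (by
      rw [show (4 : ℕ) = 2 * 2 from rfl, pow_mul, h2, one_pow]), h2⟩
  · obtain ⟨n, h4, hn2⟩ := exists_order_four S.isTwo h2
    exact absurd (by rw [← conj_pow, h]) (hx _ (S.self _ (pow_mem hv n) h4) hn2)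

/-- Squaring on the centralizer of `A` has the cosets of `W` as fibres. -/
theorem Setup.sq_fibre [Finite G] {x y : G} (hx : x ∈ S.C) (hy : y ∈ S.C) (h : x ^ 2 = y ^ 2) :
    x⁻¹ * y ∈ S.W := by
  refine S.mem_W_of_inverted (S.noInv_of_mem_C hx) (mul_mem (inv_mem hx) hy) ?_
  rw [conj_inv_mul, h]
  have hc : Commute (y ^ 2) (x⁻¹ * y)⁻¹ := by
    refine Commute.inv_right (Commute.mul_right ?_ (Commute.pow_self y 2))
    rw [← h]
    exact (Commute.pow_self x 2).inv_right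
  rw [hc.eq, mul_inv_cancel_right]

theorem Setup.delta_mem_W {g a : G} (hg : g ∈ S.M) (ha : a ∈ S.A) : delta g a ∈ S.W := by
  have h1 : g * a * g⁻¹ ∈ S.A := S.normalA.conj_mem a ha g
  refine (S.memW _).mpr ⟨mul_mem (inv_mem ha) h1, ?_⟩
  rw [delta, (show Commute a⁻¹ (g * a * g⁻¹) from S.comm _ (inv_mem ha) _ h1).mul_pow, conj_pow,
    S.fix_W hg (S.sq_mem_W ha), inv_pow, inv_mul_cancel]

theorem Setup.delta_mul {g h a : G} (hg : g ∈ S.M) (hh : h ∈ S.M) (ha : a ∈ S.A) :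
    delta (g * h) a = delta g a * delta h a := by
  calc delta (g * h) a = a⁻¹ * (g * (a * delta h a) * g⁻¹) := by unfold delta; group
    _ = delta g a * (g * delta h a * g⁻¹) := by unfold delta; group
    _ = delta g a * delta h a := by rw [S.fix_W hg (S.delta_mem_W hh ha)]

theorem Setup.delta_mul_right {g a b : G} (ha : a ∈ S.A) (hb : b ∈ S.A) :
    delta g (a * b) = delta g a * delta g b := by
  have h1 : g * a * g⁻¹ ∈ S.A := S.normalA.conj_mem a ha g
  calc delta g (a * b) = b⁻¹ * (a⁻¹ * (g * a * g⁻¹)) * (g * b * g⁻¹) := by unfold delta; group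
    _ = delta g a * delta g b := by
      rw [S.comm _ (inv_mem hb) _ (mul_mem (inv_mem ha) h1), mul_assoc]; rfl

theorem Setup.delta_congr {g a b : G} (hg : g ∈ S.M) (ha : a ∈ S.A) (hb : b ∈ S.A)
    (h : a ^ 2 = b ^ 2) [Finite G] : delta g b = delta g a := by
  have hw := S.sq_fibre (S.A_le_C ha) (S.A_le_C hb) h
  calc delta g b = delta g (a * (a⁻¹ * b)) := by rw [mul_inv_cancel_left]
    _ = delta g a * delta g (a⁻¹ * b) := S.delta_mul_right ha (S.W_le_A hw)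
    _ = delta g a := by
      rw [show delta g (a⁻¹ * b) = 1 by unfold delta; rw [S.fix_W hg hw, inv_mul_cancel], mul_one]

theorem Setup.mem_C_of_delta {g : G} (h : ∀ a ∈ S.A, delta g a = 1) : g ∈ S.C := fun a ha => by
  conv_lhs => rw [inv_mul_eq_one.mp (h a ha)]
  exact inv_mul_cancel_right _ _

theorem Setup.sq_mem_C {g : G} (hg : g ∈ S.M) : g ^ 2 ∈ S.C := S.mem_C_of_delta fun a ha => by
  rw [sq g, S.delta_mul hg hg ha, ← sq, S.sq_W (S.delta_mem_W hg ha)]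

theorem Setup.comm_mem_C {g h : G} (hg : g ∈ S.M) (hh : h ∈ S.M) : g * h * g⁻¹ * h⁻¹ ∈ S.C := by
  refine S.mem_C_of_delta fun a ha => ?_
  have hg' : g⁻¹ ∈ S.M := inv_mem hg
  have hh' : h⁻¹ ∈ S.M := inv_mem hh
  have h1 : g * h * g⁻¹ * h⁻¹ = (g * h) * (g⁻¹ * h⁻¹) := by group
  have e1 : delta (g * g⁻¹) a = 1 := by simp [delta]
  have e2 : delta (h * h⁻¹) a = 1 := by simp [delta]
  rw [S.delta_mul hg hg' ha] at e1
  rw [S.delta_mul hh hh' ha] at e2
  rw [h1, S.delta_mul (mul_mem hg hh) (mul_mem hg' hh') ha, S.delta_mul hg hh ha,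
    S.delta_mul hg' hh' ha]
  have hc : Commute (delta h a) (delta g⁻¹ a) :=
    S.comm _ (S.W_le_A (S.delta_mem_W hh ha)) _ (S.W_le_A (S.delta_mem_W hg' ha))
  rw [mul_assoc, ← mul_assoc (delta h a), hc.eq, mul_assoc, e2, mul_one, e1]

/-- An element of `M` that inverts nothing of order four and squares into `W` has an involution
in its coset. -/
theorem Setup.exists_involution [Finite G] {g : G} (hW : Nat.card S.W = 4)
    (hA : Nat.card S.A = 16) (hg : g ∈ S.M) (hn : S.NoInv g) (h2 : g ^ 2 ∈ S.W) :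
    ∃ x, x * g⁻¹ ∈ S.C ∧ x ^ 2 = 1 := by
  have hmem : ∀ a : S.A, (a : G) * (g * a * g⁻¹) ∈ S.W := fun a => by
    have e : (a : G) * (g * a * g⁻¹) = (a : G) ^ 2 * delta g a := by unfold delta; group
    rw [e]
    exact mul_mem (S.sq_mem_W a.2) (S.delta_mem_W hg a.2)
  let f : S.A →* S.W := MonoidHom.mk' (fun a => ⟨(a : G) * (g * a * g⁻¹), hmem a⟩) fun a b =>
    Subtype.ext (by
      have h1 := S.comm _ (S.normalA.conj_mem _ a.2 g) _ b.2
      calc ((a * b : S.A) : G) * (g * ((a * b : S.A) : G) * g⁻¹)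
          = (a : G) * ((b : G) * (g * a * g⁻¹)) * (g * b * g⁻¹) := by rw [coe_mul]; group
        _ = (a : G) * ((g * a * g⁻¹) * (b : G)) * (g * b * g⁻¹) := by rw [h1]
        _ = _ := by simp only [coe_mul]; group)
  have hker : f.ker = S.W.subgroupOf S.A := by
    ext a
    rw [MonoidHom.mem_ker, mem_subgroupOf]
    constructor
    · intro h
      have h' : (a : G) * (g * a * g⁻¹) = 1 := congrArg Subtype.val h
      have : (a : G) ^ 2 = 1 := by
        by_contra hne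
        exact hn _ a.2 hne (eq_inv_of_mul_eq_one_right h')
      exact (S.memW _).mpr ⟨a.2, this⟩
    · intro h
      refine Subtype.ext ?_
      change (a : G) * (g * a * g⁻¹) = 1
      rw [S.fix_W hg h, ← sq, S.sq_W h]
  have hr : Nat.card f.range = 4 := by
    have hm := card_mul_index f.ker
    rw [index_ker, hker, Nat.card_congr (subgroupOfEquivOfLe S.W_le_A).toEquiv, hW, hA] at hm
    omega
  obtain ⟨a, ha⟩ : (⟨g ^ 2, h2⟩ : S.W)⁻¹ ∈ f.range := by
    rw [eq_top_of_card_eq f.range (hr.trans hW.symm)]; trivial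
  have ha' : (a : G) * (g * a * g⁻¹) = (g ^ 2)⁻¹ := congrArg Subtype.val ha
  refine ⟨a * g, by rw [mul_inv_cancel_right]; exact S.A_le_C a.2, ?_⟩
  calc ((a : G) * g) ^ 2 = (a : G) * (g * a * g⁻¹) * g ^ 2 := by simp only [sq]; group
    _ = 1 := by rw [ha', inv_mul_cancel]

/-- A coset fixed modulo the centralizer of `A` contains no involution. -/
theorem Setup.noInvol_of_fixed [Finite G] {g : G} (hW : Nat.card S.W = 4) (hg : g ∈ S.M)
    (hgC : g ∉ S.C) (hn : S.NoInv g) (hfix : ∀ y, y * g * y⁻¹ * g⁻¹ ∈ S.C) : S.NoInvol g := by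
  intro x hx hx2
  have hxM : x ∈ S.M := by simpa using mul_mem (S.C_le_M hx) hg
  have hxW : x ∉ S.W := fun h => hgC <| by
    have := mul_mem (inv_mem hx) (S.A_le_C (S.W_le_A h))
    simpa [mul_assoc] using this
  obtain ⟨y, hy⟩ := S.noE8 hW x hx2 hxM hxW
  refine hy (S.mem_W_of_inverted (hn.congr hx) ?_ ?_)
  · have e : y * x * y⁻¹ * x⁻¹ = (y * (x * g⁻¹) * y⁻¹) * (y * g * y⁻¹ * g⁻¹) * (x * g⁻¹)⁻¹ := by
      group
    rw [e]
    exact mul_mem (mul_mem (S.normalC.conj_mem _ hx y) (hfix y)) (inv_mem hx)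
  · have i1 : x⁻¹ = x := inv_eq_of_mul_eq_one_left (by rwa [← sq])
    have i2 : (y * x * y⁻¹)⁻¹ = y * x * y⁻¹ := by simp only [mul_inv_rev, inv_inv, i1, mul_assoc]
    calc x * (y * x * y⁻¹ * x⁻¹) * x⁻¹ = x * (y * x * y⁻¹) * (x⁻¹ * x⁻¹) := by group
      _ = x * (y * x * y⁻¹) := by rw [← mul_inv_rev, ← sq, hx2, inv_one, mul_one]
      _ = (y * x * y⁻¹ * x⁻¹)⁻¹ := by rw [mul_inv_rev _ x⁻¹, inv_inv, i2]

/-- In a coset without involutions no square is a square of an element of the centralizer. -/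
theorem Setup.sq_ne [Finite G] {h d : G} (hW : Nat.card S.W = 4) (hA : Nat.card S.A = 16)
    (hh : h ∈ S.M) (hn : S.NoInv h) (hi : S.NoInvol h) (hd : d ∈ S.C) : d ^ 2 ≠ h ^ 2 := by
  intro hsq
  have hd' : h * d * h⁻¹ ∈ S.C := S.normalC.conj_mem d hd h
  have hw : d⁻¹ * (h * d * h⁻¹) ∈ S.W := S.sq_fibre hd hd' (by
    rw [conj_pow, hsq]; group)
  set w := d⁻¹ * (h * d * h⁻¹) with hw'
  have hxh : d⁻¹ * h * h⁻¹ ∈ S.C := by rw [mul_inv_cancel_right]; exact inv_mem hd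
  have hx2 : (d⁻¹ * h) ^ 2 = w⁻¹ := by
    calc (d⁻¹ * h) ^ 2 = d⁻¹ * (h * d * h⁻¹)⁻¹ * h ^ 2 := by simp only [sq]; group
      _ = d⁻¹ * (d * w)⁻¹ * d ^ 2 := by rw [hw', mul_inv_cancel_left, hsq]
      _ = d⁻¹ * (w⁻¹ * d) := by simp only [sq]; group
      _ = d⁻¹ * (d * w⁻¹) := by rw [hd _ (S.W_le_A (inv_mem hw))]
      _ = w⁻¹ := inv_mul_cancel_left _ _
  obtain ⟨x, hx, hx1⟩ := S.exists_involution hW hA (mul_mem (inv_mem (S.C_le_M hd)) hh)
    (hn.congr hxh) (hx2 ▸ inv_mem hw)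
  refine hi x ?_ hx1
  have := mul_mem hx hxh
  simpa [mul_assoc] using this

/-- An element acting without fixed points on `A / W` forces involutions into cosets. -/
theorem Setup.not_noInvol [Finite G] {g h : G} (hW : Nat.card S.W = 4) (hA : Nat.card S.A = 16)
    (hg : g ∈ S.M) (hgi : S.NoInv g) (hgf : S.NoFix g) (hh : h ∈ S.M) (hhi : S.NoInv h) :
    ¬ S.NoInvol h := by
  intro hi
  have hg2 : g ^ 2 ∈ S.W := S.mem_W_of_fixed hgf (S.sq_mem_C hg) (by group)
  have hc := S.comm_mem_C hg hh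
  have hgh : g ^ 2 * h = h * g ^ 2 := hh _ hg2
  have hcW : g * h * g⁻¹ * h⁻¹ ∈ S.W := by
    refine S.mem_W_of_inverted hgi hc ?_
    calc g * (g * h * g⁻¹ * h⁻¹) * g⁻¹ = g ^ 2 * h * (g⁻¹ * h⁻¹ * g⁻¹) := by
          simp only [sq]; group
      _ = h * g ^ 2 * (g⁻¹ * h⁻¹ * g⁻¹) := by rw [hgh]
      _ = (g * h * g⁻¹ * h⁻¹)⁻¹ := by simp only [sq]; group
  set c := g * h * g⁻¹ * h⁻¹ with hc'
  have hh2 : h ^ 2 ∈ S.W := by
    refine S.mem_W_of_fixed hgf (S.sq_mem_C hh) ?_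
    have e : g * h * g⁻¹ = c * h := by rw [hc', inv_mul_cancel_right]
    rw [← conj_pow, e, (show Commute c h from hh c hcW).mul_pow, S.sq_W hcW, one_mul]
  obtain ⟨x, hx, hx2⟩ := S.exists_involution hW hA hh hhi hh2
  exact hi x hx hx2

theorem Setup.noInvol_excludes [Finite G] {g : G} (hW : Nat.card S.W = 4)
    (hA : Nat.card S.A = 16) (hg : g ∈ S.M) (hgi : S.NoInv g) (hgf : S.NoFix g) :
    ¬ S.NoInvol g := S.not_noInvol hW hA hg hgi hgf hg hgi

end Cfsg.Agent.PGroups.FourGenerator
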